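import Mathlib
import Cfsg.Agent.H756.PU.Engine

/-!
# S5258, (G1): stabilizers of a chain of invariant subgroups lie in `E` (helper732)
-/

set_option autoImplicit false

namespace Cfsg.Agent.H732.PU

open Cfsg Cfsg.FusionSystem Cfsg.Agent.H756.PU

universe u

variable {Ω : Type*} [Group Ω]

/-- `γ` acts trivially on `A / B` -/
def Triv {E : Subgroup Ω} (A B : Subgroup Ω) (γ : MulAut E) : Prop :=
  ∀ e : E, (e : Ω) ∈ A → ((γ e : E) : Ω) * (e : Ω)⁻¹ ∈ B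

theorem triv_one {E : Subgroup Ω} (A B : Subgroup Ω) : Triv A B (1 : MulAut E) := fun e _ => by
  rw [MulAut.one_apply, mul_inv_cancel]
  exact B.one_mem

theorem Triv.mul {E A B : Subgroup Ω} (hBA : B ≤ A) {γ δ : MulAut E} (hγ : Triv A B γ) (hδ : Triv A B δ) :
    Triv A B (γ * δ) := by
  intro e he
  have h1 := hδ e he
  have h2 : ((δ e : E) : Ω) ∈ A := by
    have := A.mul_mem (hBA h1) he
    rwa [inv_mul_cancel_right] at this
  have h3 := B.mul_mem (hγ (δ e) h2) h1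
  rw [mul_assoc, inv_mul_cancel_left] at h3
  exact h3

theorem Triv.inv {E A B : Subgroup Ω} {Γ : Subgroup (MulAut E)} (hA : Inv Γ A) {γ : MulAut E} (hg : γ ∈ Γ)
    (hγ : Triv A B γ) : Triv A B γ⁻¹ := by
  intro e he
  have h1 : ((γ⁻¹ e : E) : Ω) ∈ A := hA.2 _ (Γ.inv_mem hg) e he
  have h2 := B.inv_mem (hγ _ h1)
  rw [MulAut.apply_inv_self, mul_inv_rev, inv_inv] at h2
  exact h2

theorem Triv.conj {E A B : Subgroup Ω} {Γ : Subgroup (MulAut E)} (hA : Inv Γ A) (hB : Inv Γ B) {γ g : MulAut E}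
    (hg : g ∈ Γ) (hγ : Triv A B γ) : Triv A B (g * γ * g⁻¹) := by
  intro e he
  have h1 : ((g⁻¹ e : E) : Ω) ∈ A := hA.2 _ (Γ.inv_mem hg) e he
  have h2 := hγ _ h1
  have h3 := hB.2 g hg (γ (g⁻¹ e) * (g⁻¹ e)⁻¹) h2
  rw [map_mul, map_inv, MulAut.apply_inv_self] at h3
  exact h3

/-- `γ` fixes the elements of `A` -/
def Fx {E : Subgroup Ω} (A : Subgroup Ω) (γ : MulAut E) : Prop := ∀ e : E, (e : Ω) ∈ A → γ e = e

theorem fx_step {E A B : Subgroup Ω} {γ : MulAut E} (hF : Fx B γ) (hT : Triv A B γ) :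
    Fx A (γ ^ Nat.card B) := by
  intro e he
  set d : E := γ e * e⁻¹ with hd
  have hdB : (d : Ω) ∈ B := hT e he
  have hfd : γ d = d := hF d hdB
  have key : ∀ n : ℕ, (γ ^ n) e = d ^ n * e := by
    intro n
    induction n with
    | zero => simp
    | succ n ih =>
      rw [pow_succ', MulAut.mul_apply, ih, map_mul, map_pow, hfd, pow_succ]
      rw [show γ e = d * e by rw [hd, inv_mul_cancel_right]]
      simp only [mul_assoc]
  rw [key]
  have h1 : (⟨(d : Ω), hdB⟩ : B) ^ Nat.card B = 1 := pow_card_eq_one'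
  have h2 : d ^ Nat.card B = 1 := by
    apply Subtype.ext
    have h3 : (d : Ω) ^ Nat.card B = 1 := congrArg Subtype.val h1
    rw [SubmonoidClass.coe_pow, h3]
    rfl
  rw [h2, one_mul]

/-- **(G1)** -/
theorem stChain : StChain.{u} := by
  intro Ω _ S E p Γ h M1 M2 M3 i1 i2 i3 h12 h23 X hXS c3 c2 c1 c0 x hx
  have := h.fin
  have : Fact p.Prime := ⟨h.pp⟩
  have iE : Inv Γ E := ⟨le_rfl, fun γ _ e _ => (γ e).2⟩
  have i0 : Inv Γ (⊥ : Subgroup Ω) := ⟨bot_le, fun γ _ e he => by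
    have h1 : e = 1 := Subtype.ext (Subgroup.mem_bot.1 he)
    rw [h1, map_one]
    exact (⊥ : Subgroup Ω).one_mem⟩
  have hME : M3 ≤ E := i3.1
  -- the stabilizer of the chain
  let K : Subgroup (MulAut E) :=
    { carrier := {γ | γ ∈ Γ ∧ Triv E M3 γ ∧ Triv M3 M2 γ ∧ Triv M2 M1 γ ∧ Triv M1 ⊥ γ}
      one_mem' := ⟨Γ.one_mem, triv_one _ _, triv_one _ _, triv_one _ _, triv_one _ _⟩
      mul_mem' := fun {a b} ha hb => ⟨Γ.mul_mem ha.1 hb.1, ha.2.1.mul hME hb.2.1, ha.2.2.1.mul h23 hb.2.2.1,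
        ha.2.2.2.1.mul h12 hb.2.2.2.1, ha.2.2.2.2.mul bot_le hb.2.2.2.2⟩
      inv_mem' := fun {a} ha => ⟨Γ.inv_mem ha.1, ha.2.1.inv iE ha.1, ha.2.2.1.inv i3 ha.1, ha.2.2.2.1.inv i2 ha.1,
        ha.2.2.2.2.inv i1 ha.1⟩ }
  have hKΓ : K ≤ Γ := fun _ hγ => hγ.1
  have hKn : ∀ g ∈ Γ, ∀ γ ∈ K, g * γ * g⁻¹ ∈ K := fun g hg γ hγ =>
    ⟨Γ.mul_mem (Γ.mul_mem hg hγ.1) (Γ.inv_mem hg), hγ.2.1.conj iE i3 hg, hγ.2.2.1.conj i3 i2 hg,
      hγ.2.2.2.1.conj i2 i1 hg, hγ.2.2.2.2.conj i1 i0 hg⟩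
  have hpow : ∀ {M : Subgroup Ω}, M ≤ E → ∃ k, Nat.card M = p ^ k := by
    intro M hM
    have hMS : M ≤ S := hM.trans h.E_le
    have hfin : Finite M := Finite.of_injective _ (Subgroup.inclusion_injective hMS)
    exact (h.pgr.of_injective _ (Subgroup.inclusion_injective hMS)).exists_card_eq
  have hKp : IsPGroup p K := by
    rintro ⟨γ, hγ⟩
    obtain ⟨k1, hk1⟩ := hpow i1.1
    obtain ⟨k2, hk2⟩ := hpow i2.1
    obtain ⟨k3, hk3⟩ := hpow i3.1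
    have f1 : Fx M1 γ := fun e he => by
      have := Subgroup.mem_bot.1 (hγ.2.2.2.2 e he)
      exact Subtype.ext (mul_inv_eq_one.1 this)
    have f2 : Fx M2 (γ ^ Nat.card M1) := fx_step f1 hγ.2.2.2.1
    have g2 : γ ^ Nat.card M1 ∈ K := K.pow_mem hγ _
    have f3 : Fx M3 ((γ ^ Nat.card M1) ^ Nat.card M2) := fx_step f2 g2.2.2.1
    have g3 : (γ ^ Nat.card M1) ^ Nat.card M2 ∈ K := K.pow_mem g2 _
    have f4 : Fx E (((γ ^ Nat.card M1) ^ Nat.card M2) ^ Nat.card M3) := fx_step f3 g3.2.1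
    refine ⟨k1 + k2 + k3, Subtype.ext ?_⟩
    have h1 : γ ^ p ^ (k1 + k2 + k3) = ((γ ^ Nat.card M1) ^ Nat.card M2) ^ Nat.card M3 := by
      rw [← pow_mul, ← pow_mul, hk1, hk2, hk3, pow_add, pow_add, mul_assoc]
    change γ ^ p ^ (k1 + k2 + k3) = 1
    rw [h1]
    exact MulEquiv.ext fun e => f4 e e.2
  -- `K ≤ Aut_S(E)`
  have hKS : K ≤ autInducedBy S E := by
    obtain ⟨g, hg, hs⟩ := h.syl K hKΓ hKp
    intro γ hγ
    have h1 := hKn _ (Γ.inv_mem hg) γ hγ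
    have h2 := hs _ h1
    have h3 : g * (g⁻¹ * γ * g⁻¹⁻¹) * g⁻¹ = γ := by group
    rwa [h3] at h2
  -- `K ≤ Inn(E)`
  have hKI : K ≤ Inn E := by
    obtain ⟨H, hH, hne, hSH, -, hemb⟩ := h.spe
    obtain ⟨g, hgΓ, hgH⟩ := SetLike.exists_of_lt (lt_of_le_of_ne hH hne)
    intro γ hγ
    refine hemb g hgΓ hgH γ (hSH (hKS hγ)) (hSH (hKS (hKn g hgΓ γ hγ))) ?_
    obtain ⟨k, hk⟩ := hKp ⟨γ, hγ⟩
    exact ⟨k, congrArg Subtype.val hk⟩
  -- conjugation by `x`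
  have hnorm : ∀ y ∈ X, ∀ e : E, y * e * y⁻¹ ∈ E := by
    intro y hy e
    have h1 := E.mul_mem (hME (c3 y hy e e.2)) e.2
    rwa [inv_mul_cancel_right] at h1
  let cx : MulAut E :=
    { toFun := fun e => ⟨x * e * x⁻¹, hnorm x hx e⟩
      invFun := fun e => ⟨x⁻¹ * e * x⁻¹⁻¹, hnorm _ (X.inv_mem hx) e⟩
      left_inv := fun e => Subtype.ext (by simp [mul_assoc])
      right_inv := fun e => Subtype.ext (by simp [mul_assoc])
      map_mul' := fun a b => Subtype.ext (by simp [mul_assoc]) }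
  have hcx : ∀ e : E, ((cx e : E) : Ω) = x * e * x⁻¹ := fun e => rfl
  have hcxK : cx ∈ K := by
    refine ⟨h.indu (Subgroup.subset_closure ⟨x, hXS hx, hcx⟩), ?_, ?_, ?_, ?_⟩
    · exact fun e _ => c3 x hx e e.2
    · exact fun e he => c2 x hx e he
    · exact fun e he => c1 x hx e he
    · intro e he
      rw [hcx, c0 x hx e he, mul_inv_cancel_right, mul_inv_cancel]
      exact Subgroup.one_mem _
  obtain ⟨a, ha⟩ := hKI hcxK
  have h1 : (a : Ω)⁻¹ * x ∈ E := by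
    refine h.cent _ (S.mul_mem (S.inv_mem (h.E_le a.2)) (hXS hx)) fun e he => ?_
    have h2 := congrArg (fun γ : MulAut E => ((γ ⟨e, he⟩ : E) : Ω)) ha
    have h3 : (a : Ω) * e * (a : Ω)⁻¹ = x * e * x⁻¹ := h2
    have h4 : x * e = (a : Ω) * e * (a : Ω)⁻¹ * x := by rw [h3, inv_mul_cancel_right]
    rw [mul_assoc, h4]
    group
  have h2 := E.mul_mem a.2 h1
  rwa [mul_inv_cancel_left] at h2

end Cfsg.Agent.H732.PU
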